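import Mathlib
import Groth.Agent.S15749

/-!
Sections of finite covers split by `t ↦ t^d`.
-/

set_option autoImplicit false
set_option linter.style.haveILetI false

universe u

open CategoryTheory CategoryTheory.Limits AlgebraicGeometry

namespace Groth.Agent.Tame5

/-- A map from a connected scheme to a coproduct goes into a single summand. -/
theorem existsUnique_summand {n : ℕ} (Z : Fin n → Scheme.{u}) {T : Scheme.{u}} [ConnectedSpace T]
    (w : T ⟶ ∐ Z) : ∃! i : Fin n, Set.range w ⊆ Set.range (Sigma.ι Z i) := by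
  obtain ⟨t₀⟩ := (inferInstance : Nonempty T)
  have hcov : ∀ z : (∐ Z : Scheme.{u}), ∃ i, z ∈ Set.range (Sigma.ι Z i) := fun z => by
    obtain ⟨i, x, hx⟩ := (sigmaOpenCover Z).exists_eq z
    exact ⟨i, x, hx⟩
  have hdis : ∀ i j, ∀ z, z ∈ Set.range (Sigma.ι Z i) → z ∈ Set.range (Sigma.ι Z j) → i = j := by
    intro i j z hi hj
    by_contra h
    have h1 := disjoint_opensRange_sigmaι Z i j h
    exact (Set.disjoint_left.mp (TopologicalSpace.Opens.coe_disjoint.mpr h1) hi) hj
  obtain ⟨i, hi⟩ := hcov (w t₀)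
  refine ⟨i, ?_, fun j hj => hdis _ _ _ (hj ⟨t₀, rfl⟩) hi⟩
  have hopen : IsOpen (w ⁻¹' Set.range (Sigma.ι Z i)) :=
    (Sigma.ι Z i).opensRange.2.preimage w.continuous
  have hclosed : IsClosed (w ⁻¹' Set.range (Sigma.ι Z i)) := by
    rw [← isOpen_compl_iff]
    have : (w ⁻¹' Set.range (Sigma.ι Z i))ᶜ = ⋃ j ≠ i, w ⁻¹' Set.range (Sigma.ι Z j) := by
      ext z
      simp only [Set.mem_compl_iff, Set.mem_preimage, Set.mem_iUnion]
      refine ⟨fun hz => ?_, fun ⟨j, hji, hj⟩ hz => hji (hdis _ _ _ hj hz)⟩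
      obtain ⟨j, hj⟩ := hcov (w z)
      exact ⟨j, fun h => hz (h ▸ hj), hj⟩
    rw [this]
    exact isOpen_biUnion fun j _ => (Sigma.ι Z j).opensRange.2.preimage w.continuous
  have := IsClopen.eq_univ ⟨hclosed, hopen⟩ ⟨t₀, hi⟩
  rintro _ ⟨z, rfl⟩
  exact Set.eq_univ_iff_forall.mp this z

/-- Lifts to a split cover along a map of connected bases. -/
theorem existsUnique_lift {n : ℕ} {S : Scheme.{u}} {T : Scheme.{u}} [ConnectedSpace S] [ConnectedSpace T]
    {X Y : Scheme.{u}} (p : X ⟶ Y) (g : S ⟶ Y) (e : pullback p g ≅ ∐ fun _ : Fin n => S)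
    (he : e.hom ≫ Sigma.desc (fun _ : Fin n => 𝟙 S) = pullback.snd p g)
    (r : T ⟶ S) (y : T ⟶ X) (hy : y ≫ p = r ≫ g) :
    ∃! x : S ⟶ X, x ≫ p = g ∧ r ≫ x = y := by
  let Z : Fin n → Scheme.{u} := fun _ => S
  let x : Fin n → (S ⟶ X) := fun i => Sigma.ι Z i ≫ e.inv ≫ pullback.fst p g
  have hsnd : e.inv ≫ pullback.snd p g = Sigma.desc (fun _ : Fin n => 𝟙 S) := by
    rw [← he, Iso.inv_hom_id_assoc]
  have hx : ∀ i, x i ≫ p = g := fun i => by
    simp only [x, Category.assoc]
    rw [pullback.condition, reassoc_of% hsnd, ← Category.assoc, Sigma.ι_desc, Category.id_comp]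
  have key : ∀ {V : Scheme.{u}} (_ : ConnectedSpace V) (a : V ⟶ S) (z : V ⟶ X) (hz : z ≫ p = a ≫ g),
      ∃! i, a ≫ x i = z := by
    intro V _ a z hz
    let w : V ⟶ ∐ Z := pullback.lift z a hz ≫ e.hom
    obtain ⟨i, hi, huniq⟩ := existsUnique_summand Z w
    let b := IsOpenImmersion.lift (Sigma.ι Z i) w hi
    have hb : b ≫ Sigma.ι Z i = w := IsOpenImmersion.lift_fac _ _ _
    have hba : b = a := by
      have := congrArg (· ≫ Sigma.desc (fun _ : Fin n => 𝟙 S)) hb
      simp only [Category.assoc, w, he, pullback.lift_snd] at this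
      rwa [Sigma.ι_desc, Category.comp_id] at this
    refine ⟨i, ?_, fun j hj => huniq j ?_⟩
    · simp only [x]
      rw [← hba, reassoc_of% hb]
      simp only [w, Category.assoc, Iso.hom_inv_id_assoc]
      exact pullback.lift_fst _ _ _
    · have : w = a ≫ Sigma.ι Z j := by
        simp only [w]
        rw [← Iso.eq_comp_inv]
        refine pullback.hom_ext ?_ ?_
        · rw [pullback.lift_fst, ← hj]; simp [x]
        · rw [pullback.lift_snd, Category.assoc, Category.assoc, hsnd, Sigma.ι_desc, Category.comp_id]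
      rw [this]
      exact Set.range_subset_iff.mpr fun v => ⟨a v, (Scheme.Hom.comp_apply a (Sigma.ι Z j) v).symm⟩
  obtain ⟨i, hi, hu⟩ := key inferInstance r y hy
  refine ⟨x i, ⟨hx i, hi⟩, fun x' ⟨hx', hx''⟩ => ?_⟩
  obtain ⟨j, hj, -⟩ := key inferInstance (𝟙 S) x' (by rw [hx', Category.id_comp])
  rw [Category.id_comp] at hj
  rw [← hj] at hx'' ⊢
  rw [hu j hx'']

/-- The spectrum of Laurent series over a local ring is connected. -/
theorem connectedSpace_laurent (R : Type u) [CommRing R] [IsLocalRing R] :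
    ConnectedSpace (Spec (CommRingCat.of (LaurentSeries R))) := by
  show ConnectedSpace (PrimeSpectrum (LaurentSeries R))
  rw [connectedSpace_iff_clopen]
  refine ⟨inferInstance, fun s hs => ?_⟩
  obtain ⟨e, he, rfl⟩ := PrimeSpectrum.isClopen_iff.mp hs
  obtain ⟨r, ⟨hr, rfl⟩, -⟩ := S15749.result R e he
  rcases IsLocalRing.isUnit_or_isUnit_one_sub_self r with hu | hu
  rotate_left
  · obtain rfl : r = 0 := hu.mul_left_eq_zero.mp (by rw [mul_sub, mul_one, hr.eq, sub_self])
    left; simp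
  obtain rfl : r = 1 := hu.mul_left_cancel (by rw [hr.eq, mul_one])
  right; simp

section Twist

variable {R : Type u} [CommRing R]

/-- The substitution `t ↦ ζ t`. -/
noncomputable def twist (z : Rˣ) : LaurentSeries R →+* LaurentSeries R where
  toFun x :=
    { coeff := fun g => ((z ^ g : Rˣ) : R) * x.coeff g
      isPWO_support' := x.isPWO_support.mono fun g hg h => hg (by simp [h]) }
  map_one' := by
    ext g
    by_cases h : g = 0
    · subst h; simp
    · simp [h]
  map_zero' := by ext g; simp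
  map_add' x y := by ext g; simp [mul_add]
  map_mul' x y := by
    ext g
    set a : LaurentSeries R :=
      ⟨fun g => ((z ^ g : Rˣ) : R) * x.coeff g, x.isPWO_support.mono fun g hg h => hg (by simp [h])⟩
    set b : LaurentSeries R :=
      ⟨fun g => ((z ^ g : Rˣ) : R) * y.coeff g, y.isPWO_support.mono fun g hg h => hg (by simp [h])⟩
    show ((z ^ g : Rˣ) : R) * (x * y).coeff g = (a * b).coeff g
    rw [HahnSeries.coeff_mul, HahnSeries.coeff_mul_left' (hs := x.isPWO_support)
      (fun g hg h => hg (by simp [a, h])), Finset.mul_sum]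
    refine (Eq.trans ?_ (Finset.sum_subset (s₂ := Finset.antidiagonal x.isPWO_support y.isPWO_support g)
      (f := fun ij : ℤ × ℤ => a.coeff ij.1 * b.coeff ij.2) ?_ ?_).symm)
    · refine Finset.sum_congr rfl fun ij hij => ?_
      simp only [Finset.mem_antidiagonal] at hij
      have : ((z ^ g : Rˣ) : R) = ((z ^ ij.1 : Rˣ) : R) * ((z ^ ij.2 : Rˣ) : R) := by
        rw [← Units.val_mul, ← zpow_add, hij.2.2]
      simp only [a, b, this]
      ring
    · intro ij hij
      simp only [Finset.mem_antidiagonal] at hij ⊢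
      exact ⟨hij.1, fun h => hij.2.1 (by simp [b, h]), hij.2.2⟩
    · intro ij hij hn
      simp only [Finset.mem_antidiagonal] at hij hn
      have : y.coeff ij.2 = 0 := by
        by_contra hb
        exact hn ⟨hij.1, by simpa [b] using hb, hij.2.2⟩
      simp [b, this]

theorem coeff_twist (z : Rˣ) (x : LaurentSeries R) (g : ℤ) :
    (twist z x).coeff g = ((z ^ g : Rˣ) : R) * x.coeff g := rfl

variable {d : ℕ} (hinj : Function.Injective (AddMonoidHom.mulLeft (d : ℤ)))
  (hmono : ∀ g g' : ℤ, AddMonoidHom.mulLeft (d : ℤ) g ≤ AddMonoidHom.mulLeft (d : ℤ) g' ↔ g ≤ g')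

theorem coeff_emb (x : LaurentSeries R) (g : ℤ) :
    (HahnSeries.embDomainRingHom (R := R) (AddMonoidHom.mulLeft (d : ℤ)) hinj hmono x).coeff ((d : ℤ) * g) =
      x.coeff g := by
  rw [HahnSeries.embDomainRingHom_apply]
  exact HahnSeries.embDomain_mk_coeff (f := fun g : ℤ => (d : ℤ) * g) hinj hmono

theorem coeff_emb_of_not_dvd (x : LaurentSeries R) {g : ℤ} (hg : ¬(d : ℤ) ∣ g) :
    (HahnSeries.embDomainRingHom (R := R) (AddMonoidHom.mulLeft (d : ℤ)) hinj hmono x).coeff g = 0 := by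
  rw [HahnSeries.embDomainRingHom_apply]
  exact HahnSeries.embDomain_of_notMem_range fun ⟨c, hc⟩ => hg ⟨c, hc.symm⟩

theorem twist_emb (z : Rˣ) (hz : z ^ d = 1) :
    (twist z).comp (HahnSeries.embDomainRingHom (R := R) (AddMonoidHom.mulLeft (d : ℤ)) hinj hmono) =
      HahnSeries.embDomainRingHom (R := R) (AddMonoidHom.mulLeft (d : ℤ)) hinj hmono := by
  refine RingHom.ext fun x => HahnSeries.ext ?_
  funext g
  rw [RingHom.comp_apply, coeff_twist]
  by_cases hg : (d : ℤ) ∣ g
  · obtain ⟨c, rfl⟩ := hg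
    rw [zpow_mul, zpow_natCast, hz, one_zpow, Units.val_one, one_mul]
  · rw [coeff_emb_of_not_dvd hinj hmono x hg, mul_zero]

theorem emb_injective :
    Function.Injective (HahnSeries.embDomainRingHom (R := R) (AddMonoidHom.mulLeft (d : ℤ)) hinj hmono) :=
  fun x y h => HahnSeries.ext (funext fun g => by rw [← coeff_emb hinj hmono x g, ← coeff_emb hinj hmono y g, h])

theorem mem_range_emb (hd : 0 < d) {x : LaurentSeries R} (hx : ∀ g : ℤ, ¬(d : ℤ) ∣ g → x.coeff g = 0) :
    ∃ y, HahnSeries.embDomainRingHom (R := R) (AddMonoidHom.mulLeft (d : ℤ)) hinj hmono y = x := by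
  have hd' : (0 : ℤ) < d := by exact_mod_cast hd
  have hN : ∀ g ∈ x.support, x.order ≤ g := fun g hg => HahnSeries.order_le_of_coeff_ne_zero hg
  refine ⟨HahnSeries.ofSuppBddBelow (fun g => x.coeff ((d : ℤ) * g)) ⟨min x.order 0, fun g hg => ?_⟩, ?_⟩
  · have h1 : x.order ≤ (d : ℤ) * g := hN _ hg
    rcases le_total 0 g with h | h
    · exact le_trans (min_le_right _ _) h
    · refine le_trans (min_le_left _ _) (le_trans h1 ?_)
      have h2 : (1 : ℤ) ≤ d := hd'
      nlinarith
  · refine HahnSeries.ext (funext fun g => ?_)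
    by_cases hg : (d : ℤ) ∣ g
    · obtain ⟨c, rfl⟩ := hg
      rw [coeff_emb, HahnSeries.coeff_ofSuppBddBelow]
    · rw [coeff_emb_of_not_dvd hinj hmono _ hg, hx g hg]

end Twist

/-- A primitive `d`-th root of unity in a strictly henselian local ring. -/
theorem exists_zeta (R : Type u) [CommRing R] [HenselianLocalRing R]
    [IsSepClosed (IsLocalRing.ResidueField R)] {d : ℕ} (hd : 0 < d) (hdu : IsUnit (d : R)) :
    ∃ z : Rˣ, z ^ d = 1 ∧ ∀ g : ℤ, ¬(d : ℤ) ∣ g → IsUnit (((z ^ g : Rˣ) : R) - 1) := by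
  set k := IsLocalRing.ResidueField R
  haveI : NeZero (d : k) := ⟨by
    rw [← map_natCast (IsLocalRing.residue R)]
    exact (hdu.map _).ne_zero⟩
  obtain ⟨w, hw⟩ := HasEnoughRootsOfUnity.exists_primitiveRoot k d
  obtain ⟨a₀, rfl⟩ := IsLocalRing.residue_surjective w
  have ha₀ : (Polynomial.X ^ d - 1 : Polynomial R).eval a₀ ∈ IsLocalRing.maximalIdeal R := by
    rw [← IsLocalRing.residue_eq_zero_iff]
    simp [hw.pow_eq_one]
  have hu : IsUnit ((Polynomial.X ^ d - 1 : Polynomial R).derivative.eval a₀) := by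
    simp only [Polynomial.derivative_sub, Polynomial.derivative_X_pow, Polynomial.derivative_one,
      sub_zero, Polynomial.eval_mul, Polynomial.eval_C, Polynomial.eval_pow, Polynomial.eval_X]
    refine hdu.mul (IsUnit.pow _ ?_)
    rw [← IsLocalRing.residue_ne_zero_iff_isUnit]
    exact hw.ne_zero hd.ne'
  obtain ⟨a, ha, ha'⟩ := HenselianLocalRing.is_henselian _ (Polynomial.monic_X_pow_sub_C 1 hd.ne') a₀
    (by simpa using ha₀) (by simpa using hu)
  have had : a ^ d = 1 := by simpa [Polynomial.IsRoot, sub_eq_zero] using ha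
  refine ⟨Units.ofPowEqOne a d had hd.ne', Units.ext (by simpa using had), fun g hg => ?_⟩
  rw [← IsLocalRing.residue_ne_zero_iff_isUnit, map_sub, map_one, sub_ne_zero]
  intro h
  apply hg
  have hres : IsLocalRing.residue R a = IsLocalRing.residue R a₀ := Ideal.Quotient.eq.mpr ha'
  let W := Units.map (IsLocalRing.residue R).toMonoidHom (Units.ofPowEqOne a d had hd.ne')
  have h1 : IsPrimitiveRoot W d := by
    rw [← IsPrimitiveRoot.coe_units_iff]
    show IsPrimitiveRoot (IsLocalRing.residue R a) d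
    rwa [hres]
  refine (h1.zpow_eq_one_iff_dvd g).mp (Units.ext ?_)
  show ((W ^ g : kˣ) : k) = 1
  rw [← map_zpow]
  exact h

end Groth.Agent.Tame5
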